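import Groth.Agent.DEquiv.K357.HCoh
import Groth.Agent.PerfA.PerfWin
import Groth.Agent.PerfA.Restrict

/-!
# Exact functors between categories of perfect objects are bounded on coherent modules
-/

set_option autoImplicit false

universe u

open CategoryTheory CategoryTheory.Limits AlgebraicGeometry DerivedCategory

attribute [local instance] HasDerivedCategory.standard

namespace K357.BoundF

open Groth.Agent

/-- The cohomology sheaves of `F` as homological functors. -/
noncomputable abbrev Hfun {X Y : Scheme.{u}} [(SGA6.perfP X).IsTriangulated] [(SGA6.perfP Y).IsTriangulated]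
    (F : (SGA6.perfP X).FullSubcategory ⥤ (SGA6.perfP Y).FullSubcategory) :
    (SGA6.perfP X).FullSubcategory ⥤ Y.Modules :=
  (F ⋙ (SGA6.perfP Y).ι) ⋙ DerivedCategory.homologyFunctor Y.Modules 0

/-- `H^0(F(K⟦i⟧)) ≅ H^i(F(K))` -/
noncomputable def HfunIso {X Y : Scheme.{u}} [(SGA6.perfP X).IsTriangulated] [(SGA6.perfP Y).IsTriangulated]
    (F : (SGA6.perfP X).FullSubcategory ⥤ (SGA6.perfP Y).FullSubcategory) [F.CommShift ℤ]
    (K : (SGA6.perfP X).FullSubcategory) (i : ℤ) :
    (Hfun F).obj ((shiftFunctor (SGA6.perfP X).FullSubcategory i).obj K) ≅ DCoh.HD (F.obj K).obj i :=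
  (DerivedCategory.homologyFunctor Y.Modules 0).mapIso (((F ⋙ (SGA6.perfP Y).ι).commShiftIso i).app K) ≪≫
    PerfA.PerfWin.HDshift _ i 0 i (add_zero i)

theorem exists_bound (k : Type u) [Field k] {X Y : Scheme.{u}} (a : X ⟶ Spec (.of k)) [IsProper a] [Smooth a]
    [CompactSpace Y] [(SGA6.perfP X).IsTriangulated] [(SGA6.perfP Y).IsTriangulated]
    (F : (SGA6.perfP X).FullSubcategory ⥤ (SGA6.perfP Y).FullSubcategory) [F.CommShift ℤ] [F.IsTriangulated] :
    ∃ m : ℕ, ∀ (M : X.Modules), Coh.IsCoh M → ∀ (hM : SGA6.perfP X (DCoh.inD X M)) (i : ℤ),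
      (i < -(m : ℤ) ∨ (m : ℤ) < i) → IsZero (DCoh.HD (F.obj ⟨DCoh.inD X M, hM⟩).obj i) := by
  obtain ⟨m, -, hm⟩ := HCoh.main a (Hfun F) (fun K => by
    obtain ⟨b, c, hb, hc⟩ := PerfA.Restrict.exists_bounds_of_isPerfect (F.obj K).obj (F.obj K).property
    refine (Set.finite_Icc b c).subset (fun i hi => ?_)
    by_contra hbc
    refine hi (IsZero.of_iso ?_ (HfunIso F K i))
    rw [Set.mem_Icc, not_and_or, not_le, not_le] at hbc
    rcases hbc with h | h
    · exact (F.obj K).obj.isZero_of_isGE b i h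
    · exact (F.obj K).obj.isZero_of_isLE c i h)
  exact ⟨m, fun M hc hM i hi => (hm M hc hM i hi).of_iso (HfunIso F _ i).symm⟩

end K357.BoundF
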