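import Groth.Agent.DEquiv.K357.Syz
import Groth.Agent.DEquiv.K237.BoxGen
import Groth.Agent.DEquiv.K237.PRes
import Groth.Agent.PerfA.CohSerre
import Groth.Agent.CycB.ClosSheaf
import Groth.Agent.PerfA.QCohD
import Groth.Agent.S1005
import Groth.Agent.S1022
import Groth.Agent.S1109
import Groth.Agent.S1535

/-!
# The diagonal of a smooth scheme is generated by one box product

`diag_mem`: for `X` smooth, quasi-compact and separated over a field, there are finite locally free modules
`E`, `G` on `X` such that `Δ_* O_X` is in the triangulated envelope of `E ⊠ G` in `D(X × X)`.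
-/

set_option autoImplicit false

universe v u

open CategoryTheory CategoryTheory.Limits AlgebraicGeometry MonoidalCategory

attribute [local instance] HasDerivedCategory.standard

namespace K357.DiagEnv

open Groth.Agent

/-- A tower of syzygies. -/
theorem exists_tower {A : Type u} [Category.{v} A] [Abelian A] (P Q : ObjectProperty A)
    (h : ∀ M, Q M → ∃ (B : A) (π : B ⟶ M), P B ∧ Epi π ∧ Q (kernel π)) (M : A) (hM : Q M) :
    ∃ S : ℕ → ShortComplex A, (∀ n, (S n).ShortExact) ∧ (∀ n, Nonempty ((S n).X₁ ≅ (S (n + 1)).X₃)) ∧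
      Nonempty ((S 0).X₃ ≅ M) ∧ (∀ n, Q (S n).X₃) ∧ ∀ n, P (S n).X₂ := by
  let T : {M : A // Q M} := ⟨M, hM⟩
  refine ⟨fun n => ShortComplex.mk (K237.PRes.inc P Q h T n) (K237.PRes.proj P Q h (K237.PRes.syz P Q h T n))
    (K237.PRes.inc_proj P Q h T n), fun n => ?_, fun n => ⟨Iso.refl _⟩, ⟨Iso.refl _⟩,
    fun n => (K237.PRes.syz P Q h T n).2, fun n => K237.PRes.cov_mem P Q h _⟩
  have hm : Mono (K237.PRes.inc P Q h T n) := inferInstance
  have he : Epi (K237.PRes.proj P Q h (K237.PRes.syz P Q h T n)) := inferInstance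
  exact { exact := ShortComplex.exact_of_f_is_kernel _ (kernelIsKernel _)
          mono_f := hm
          epi_g := he }

section Box

open scoped Groth.Agent.Dcoh.MonCat

variable {X Y S : Scheme.{u}} (f : X ⟶ S) (g : Y ⟶ S)

/-- Box products of retracts. -/
noncomputable def boxRetract {E E' : X.Modules} {G G' : Y.Modules} (r : Retract E E') (s : Retract G G') :
    Retract (K237.BoxGen.box f g E G) (K237.BoxGen.box f g E' G') where
  i := ((Scheme.Modules.pullback (pullback.fst f g)).map r.i ⊗ₘ (Scheme.Modules.pullback (pullback.snd f g)).map s.i :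
    (Scheme.Modules.pullback (pullback.fst f g)).obj E ⊗ (Scheme.Modules.pullback (pullback.snd f g)).obj G ⟶
    (Scheme.Modules.pullback (pullback.fst f g)).obj E' ⊗ (Scheme.Modules.pullback (pullback.snd f g)).obj G')
  r := ((Scheme.Modules.pullback (pullback.fst f g)).map r.r ⊗ₘ (Scheme.Modules.pullback (pullback.snd f g)).map s.r :
    (Scheme.Modules.pullback (pullback.fst f g)).obj E' ⊗ (Scheme.Modules.pullback (pullback.snd f g)).obj G' ⟶
    (Scheme.Modules.pullback (pullback.fst f g)).obj E ⊗ (Scheme.Modules.pullback (pullback.snd f g)).obj G)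
  retract := by
    refine (tensorHom_comp_tensorHom _ _ _ _).trans ?_
    rw [← CategoryTheory.Functor.map_comp, ← CategoryTheory.Functor.map_comp, r.retract, s.retract,
      CategoryTheory.Functor.map_id, CategoryTheory.Functor.map_id]
    exact id_tensorHom_id _ _

/-- Finitely many pairs of finite locally free modules are direct summands of one pair. -/
theorem exists_common (E : ℕ → X.Modules) (G : ℕ → Y.Modules) (hE : ∀ n, FlatMod.IsFinLocFree (E n))
    (hG : ∀ n, FlatMod.IsFinLocFree (G n)) (N : ℕ) :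
    ∃ (E' : X.Modules) (G' : Y.Modules), FlatMod.IsFinLocFree E' ∧ FlatMod.IsFinLocFree G' ∧
      ∀ n < N, Nonempty (Retract (E n) E') ∧ Nonempty (Retract (G n) G') := by
  induction N with
  | zero => exact ⟨E 0, G 0, hE 0, hG 0, fun n hn => absurd hn (by lia)⟩
  | succ N ih =>
    obtain ⟨E', G', hE', hG', h⟩ := ih
    refine ⟨E' ⊞ E N, G' ⊞ G N, Dcoh.FinLocFree.isFinLocFree_biprod hE' (hE N),
      Dcoh.FinLocFree.isFinLocFree_biprod hG' (hG N), fun n hn => ?_⟩
    rcases Nat.lt_succ_iff_lt_or_eq.1 hn with hn | rfl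
    · obtain ⟨⟨r⟩, ⟨s⟩⟩ := h n hn
      exact ⟨⟨r.trans ⟨biprod.inl, biprod.fst, biprod.inl_fst⟩⟩, ⟨s.trans ⟨biprod.inl, biprod.fst, biprod.inl_fst⟩⟩⟩
    · exact ⟨⟨⟨biprod.inr, biprod.snd, biprod.inr_snd⟩⟩, ⟨⟨biprod.inr, biprod.snd, biprod.inr_snd⟩⟩⟩

end Box

section Zero

variable {C : Type u} [Category.{v} C] [Preadditive C] [HasShift C ℤ] [∀ n : ℤ, (shiftFunctor C n).Additive]

theorem eq_zero_of_forall {P P' B : C} {n : ℤ} (h : ∀ ψ : P⟦-n⟧ ⟶ B, ψ = 0) (e : P' ≅ P) (φ : P' ⟶ B⟦n⟧) :
    φ = 0 := by
  have h1 := h ((e.inv ≫ φ)⟦-n⟧' ≫ (shiftFunctorCompIsoId C n (-n) (by simp)).hom.app B)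
  have h2 : (shiftFunctor C (-n)).map (e.inv ≫ φ) = 0 := by
    rw [← cancel_mono ((shiftFunctorCompIsoId C n (-n) (by simp)).hom.app B), h1, zero_comp]
  have h3 : e.inv ≫ φ = 0 := (shiftFunctor C (-n)).map_injective (by rw [h2, Functor.map_zero])
  rwa [← cancel_epi e.inv, comp_zero]

end Zero

section Smooth

variable (k : Type u) [Field k] (X : Scheme.{u}) (a : X ⟶ Spec (.of k)) [CompactSpace X] [IsSeparated a] [Smooth a]

include k a in
theorem isNoetherian : IsNoetherian X := by
  have hN : IsLocallyNoetherian X := LocallyOfFiniteType.isLocallyNoetherian a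
  exact {}

include k a in
omit [CompactSpace X] [IsSeparated a] in
theorem isRegular (x : X) : IsRegularLocalRing (X.presheaf.stalk x) := by
  letI : X.Over (Spec (.of k)) := ⟨a⟩
  have : Smooth (X ↘ Spec (.of k)) := inferInstanceAs (Smooth a)
  exact S1535.result k X x

include k a in
theorem hasResolutionProperty : PerfAux.HasResolutionProperty X := by
  have := isNoetherian k X a
  refine S1109.result X (isRegular k X a) (fun U V hU hV => ?_)
  have : X.IsSeparated := ⟨by
    have : IsSeparated (a ≫ terminal.from _) := inferInstance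
    rwa [terminal.comp_from] at this⟩
  exact hU.inf hV

instance : IsSeparated (pullback.fst a a ≫ a) := inferInstance
instance : Smooth (pullback.fst a a ≫ a) := inferInstance

instance compactSpace_prod : CompactSpace ↑(pullback a a) := by
  have : QuasiCompact (pullback.fst a a) := inferInstance
  exact QuasiCompact.compactSpace_of_compactSpace (pullback.fst a a)

/-- The structure sheaf of the diagonal. -/
noncomputable abbrev ODelta : (pullback a a).Modules :=
  (Coh.push (pullback.diagonal a)).obj (Coh.structureModule X)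

theorem isCoh_ODelta : Coh.IsCoh (ODelta k X a) := by
  have := isNoetherian k X a
  have := isNoetherian k (pullback a a) (pullback.fst a a ≫ a)
  exact CycB.ClosSheaf.isCoh_push_structureModule _

/-- The diagonal of a smooth scheme is in the triangulated envelope of a box product. -/
theorem diag_mem : ∃ (E G : X.Modules), FlatMod.IsFinLocFree E ∧ FlatMod.IsFinLocFree G ∧
    (ObjectProperty.ofObj (fun _ : PUnit.{u + 1} =>
      DCoh.inD (pullback a a) (K237.BoxGen.box a a E G))).triangEnvelope
      (DCoh.inD (pullback a a) (ODelta k X a)) := by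
  have hX := isNoetherian k X a
  have hP := isNoetherian k (pullback a a) (pullback.fst a a ≫ a)
  have hres := hasResolutionProperty k X a
  have hcoh := isCoh_ODelta k X a
  have hge : (DCoh.inD (pullback a a) (ODelta k X a)).IsGE 0 := inferInstance
  have hle : (DCoh.inD (pullback a a) (ODelta k X a)).IsLE 0 := inferInstance
  have hperf : DCoh.IsPerfect (DCoh.inD (pullback a a) (ODelta k X a)) :=
    S1005.result (pullback a a) (isRegular k (pullback a a) (pullback.fst a a ≫ a)) _ 0 0
      (PerfA.QCohD.isCohD_inD _ hcoh)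
  obtain ⟨N, hN⟩ := S1022.vanishing (pullback a a) _ hperf 0
  obtain ⟨S, hS, hS', ⟨e0⟩, hQ, hB⟩ := exists_tower (K237.BoxGen.IsBox a a) (fun M => Coh.IsCoh M)
    (fun M hM => by
      obtain ⟨E, G, hE, hG, π, hπ⟩ := K237.BoxGen.exists_epi a a hres hres M hM.1 hM.2
      have hB : K237.BoxGen.IsBox a a _ := ⟨E, G, hE, hG, ⟨Iso.refl _⟩⟩
      exact ⟨_, π, hB, hπ, Groth.Agent.PerfA.CohSerre.isCoh_kernel π
        (Groth.Agent.PerfA.CohSerre.isCoh_of_isFinLocFree (hB.isFinLocFree _ _)) hM.1⟩)
    (ODelta k X a) hcoh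
  choose E G hE hG e using hB
  obtain ⟨E', G', hE', hG', hr⟩ := exists_common E G hE hG N.toNat
  refine ⟨E', G', hE', hG', ?_⟩
  set T := (ObjectProperty.ofObj (fun _ : PUnit.{u + 1} =>
      DCoh.inD (pullback a a) (K237.BoxGen.box a a E' G'))).triangEnvelope with hT
  have hbox : T (DCoh.inD (pullback a a) (K237.BoxGen.box a a E' G')) :=
    ObjectProperty.le_triangEnvelope _ _ (ObjectProperty.ofObj_apply _ PUnit.unit)
  have hmem : T ((DerivedCategory.singleFunctor (pullback a a).Modules 0).obj (S 0).X₃) := by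
    refine K357.Syz.prop_of_tower T S hS (fun n => (hS' n).some) N.toNat (fun n hn => ?_) (fun φ => ?_)
    · obtain ⟨⟨r⟩, ⟨s⟩⟩ := hr n hn
      refine T.prop_of_retract ?_ hbox
      exact (Retract.ofIso ((DerivedCategory.singleFunctor (pullback a a).Modules 0).mapIso (e n).some)).trans
        ((boxRetract a a r s).map (DerivedCategory.singleFunctor (pullback a a).Modules 0))
    · let B := (DerivedCategory.singleFunctor (pullback a a).Modules 0).obj (S N.toNat).X₃
      let e0' := (DerivedCategory.singleFunctor (pullback a a).Modules 0).mapIso e0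
      have hB1 : DCoh.IsQCohD B := PerfA.QCohD.isQCohD_of_isCohD (PerfA.QCohD.isCohD_inD _ (hQ _))
      have hB2 : B.IsLE 0 := inferInstance
      exact eq_zero_of_forall (fun ψ => hN N.toNat (Int.self_le_toNat N) B hB1 hB2 ψ) e0' φ
  exact T.prop_of_iso ((DerivedCategory.singleFunctor (pullback a a).Modules 0).mapIso e0) hmem

end Smooth

end K357.DiagEnv
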