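import Groth.Agent.DEquiv.K353.Conv
import Groth.Agent.Dcoh.KFlatMod
import Groth.Agent.Dcoh.LTMod

/-!
# Fourier–Mukai transforms with kernel a box product

* `inD_tensor`: `M[0] ⊗ N[0] ≅ (M ⊗ N)[0]` for `N` flat;
* `lpull_inD`: `Lf^* (E[0]) ≅ (f^* E)[0]` for `E` flat;
* `box_eval`: `Rq_* (Lp^* F ⊗ (p^* E ⊗ q^* G)) ≅ Lb^* Ra_* (F ⊗ E) ⊗ G`, natural statement on objects.
-/

set_option autoImplicit false

universe u

open CategoryTheory CategoryTheory.Limits AlgebraicGeometry MonoidalCategory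

attribute [local instance] HasDerivedCategory.standard

open scoped Groth.Agent.Dcoh.MonCat Groth.Agent.Dcoh.ModD

namespace K357.BoxEval

open K353.OnSub K353.Calc Groth.Agent Groth.Agent.Dcoh

variable {X Y Z W S : Scheme.{u}}

/-- The complex `M[0]`. -/
noncomputable abbrev sgl (M : X.Modules) : CochainComplex X.Modules ℤ :=
  (HomologicalComplex.single X.Modules (ComplexShape.up ℤ) 0).obj M

/-- `M[0]` in the derived category. -/
noncomputable def sglIso (M : X.Modules) : DerivedCategory.Q.obj (sgl M) ≅ DCoh.inD X M :=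
  ((SingleFunctors.evaluation _ _ 0).mapIso (DerivedCategory.singleFunctorsPostcompQIso X.Modules) |>.app M).symm

/-- `M[0] ⊗ N[0] ≅ (M ⊗ N)[0]` for `N` flat. -/
theorem inD_tensor (M N : X.Modules) (hN : FlatMod.IsFlat N) :
    Nonempty (DCoh.inD X M ⊗ DCoh.inD X N ≅ DCoh.inD X (CohB1.tensorMod M N)) := by
  have hK : DCoh.IsKFlat (sgl N) := KFlatMod.isKFlat_single N hN 0
  obtain ⟨s⟩ := LTMod.nonempty_singleIso' N
  let e1 : DerivedCategory.Q.obj (sgl M) ⊗ DerivedCategory.Q.obj (sgl N) ≅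
      DerivedCategory.Q.obj ((DCoh.tensorCx.obj (sgl M)).obj (sgl N)) := ModTens.tensorIso _ _ hK
  let e2 : (DCoh.tensorCx.obj (sgl M)).obj (sgl N) ≅
      ((DCoh.tensorRightMod N).mapHomologicalComplex (ComplexShape.up ℤ)).obj (sgl M) := (s.app (sgl M)).symm
  let e3 : ((DCoh.tensorRightMod N).mapHomologicalComplex (ComplexShape.up ℤ)).obj (sgl M) ≅
      sgl ((DCoh.tensorRightMod N).obj M) :=
    (HomologicalComplex.singleMapHomologicalComplex (DCoh.tensorRightMod N) (ComplexShape.up ℤ) 0).app M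
  exact ⟨((sglIso M).symm ⊗ᵢ (sglIso N).symm) ≪≫ e1 ≪≫ DerivedCategory.Q.mapIso (e2 ≪≫ e3) ≪≫ sglIso _⟩

/-- `Lf^* (E[0]) ≅ (f^* E)[0]` for `E` flat. -/
theorem lpull_inD (f : X ⟶ Y) [DCoh.HasLpull f] (E : Y.Modules) (hE : FlatMod.IsFlat E) :
    Nonempty ((DCoh.Lpull f).obj (DCoh.inD Y E) ≅ DCoh.inD X ((Scheme.Modules.pullback f).obj E)) := by
  have hK : DCoh.IsKFlat (sgl E) := KFlatMod.isKFlat_single E hE 0
  let e3 : ((Scheme.Modules.pullback f).mapHomologicalComplex (ComplexShape.up ℤ)).obj (sgl E) ≅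
      sgl ((Scheme.Modules.pullback f).obj E) :=
    (HomologicalComplex.singleMapHomologicalComplex (Scheme.Modules.pullback f) (ComplexShape.up ℤ) 0).app E
  exact ⟨(DCoh.Lpull f).mapIso (sglIso E).symm ≪≫ DerPull.lpullIso f (sgl E) hK ≪≫
    DerivedCategory.Q.mapIso e3 ≪≫ sglIso _⟩

/-- `Rq_* (Lp^* F ⊗ (Lp^* E ⊗ Lq^* G)) ≅ Lb^* Ra_* (F ⊗ E) ⊗ G` -/
theorem box_eval {p : W ⟶ X} {q : W ⟶ Y} {a : X ⟶ S} {b : Y ⟶ S} (sq : IsPullback p q a b)
    [QuasiCompact a] [QuasiSeparated a] (hflat : Flat a ∨ Flat b)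
    [DCoh.HasLpull p] [DCoh.HasRpush q] [DCoh.HasRpush a] [DCoh.HasLpull b]
    (F E : DCoh.D X) (G : DCoh.D Y) (hF : qc X F) (hE : qc X E) (hG : qc Y G)
    (B : DCoh.D W) [DCoh.HasLpull q] (eB : B ≅ (DCoh.Lpull p).obj E ⊗ (DCoh.Lpull q).obj G) :
    Nonempty ((K353.Conv.fm p q B).obj F ≅ (DCoh.Lpull b).obj ((DCoh.Rpush a).obj (F ⊗ E)) ⊗ G) := by
  have hqc : QuasiCompact q := MorphismProperty.of_isPullback sq inferInstance
  have hqs : QuasiSeparated q := MorphismProperty.of_isPullback sq inferInstance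
  obtain ⟨k⟩ := lpull_tensor p E
  obtain ⟨e1⟩ := (bc hflat sq).app (qc_tensor F E hF hE)
  obtain ⟨e2⟩ := (proj_right q G hG).app (qc_lpull p _ (qc_tensor F E hF hE))
  refine ⟨(DCoh.Rpush q).mapIso (whiskerLeftIso _ eB ≪≫ (α_ _ _ _).symm ≪≫
    whiskerRightIso (k.app F).symm _) ≪≫ ?_⟩
  exact e2.symm ≪≫ whiskerRightIso e1.symm G

end K357.BoxEval
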