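import Groth.Agent.PerfA.HypAffine
import Groth.Agent.PerfA.QCohD
import Groth.Agent.Ega1.FTAffine
import Groth.Agent.CohtopB.DTrunc
import Mathlib.Algebra.Category.ModuleCat.Biproducts

/-!
# Dévissage over a field

`field_dev`: a property of objects of `D(Spec k)` closed under isomorphisms, binary sums and containing the shifts
`O[-i]`, `a ≤ i ≤ b`, and `0`, contains all the objects with coherent cohomology in degrees `[a, b]`.
-/

set_option autoImplicit false

universe u

open CategoryTheory CategoryTheory.Limits CategoryTheory.Pretriangulated AlgebraicGeometry DerivedCategory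

attribute [local instance] HasDerivedCategory.standard

namespace K357.FieldDev

open Groth.Agent

theorem exists_tilde {R : CommRingCat.{u}} (G : (Spec R).Modules) (hG : Coh.IsCoh G) :
    ∃ (Q : ModuleCat.{u} R), Module.Finite R Q ∧ Nonempty ((tilde.functor R).obj Q ≅ G) := by
  have hq : G.IsQuasicoherent := hG.1
  have e := (asIso G.fromTildeΓ).symm
  exact ⟨_, Ega1.FTAffine.finite_of_isFiniteType _ e hG.2, ⟨e.symm⟩⟩

variable {R : CommRingCat.{u}} [Nontrivial R] (hR : ∀ (Q : ModuleCat.{u} R), Module.Free R Q)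

include hR in
/-- Induction for coherent modules over a field. -/
theorem coh_induction (P : ObjectProperty (Spec R).Modules) [P.IsClosedUnderIsomorphisms]
    (h0 : ∀ Z, IsZero Z → P Z) (hsum : ∀ A B, P A → P B → P (A ⊞ B))
    (h1 : P (Coh.structureModule (Spec R))) (M : (Spec R).Modules)
    (hM : Coh.IsCoh M) : P M := by
  obtain ⟨Q, hQ, ⟨e⟩⟩ := exists_tilde M hM
  have hb : PreservesBinaryBiproducts (tilde.functor R) :=
    preservesBinaryBiproducts_of_preservesBiproducts _
  have h1' : P ((tilde.functor R).obj (ModuleCat.of R R)) := P.prop_of_iso (tildeSelf (R := R)).symm h1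
  have key : ∀ n : ℕ, P ((tilde.functor R).obj (ModuleCat.of R (Fin n → R))) := by
    intro n
    induction n with
    | zero =>
      have hz : IsZero (ModuleCat.of R (Fin 0 → R)) := ModuleCat.isZero_of_subsingleton _
      exact h0 _ ((tilde.functor R).map_isZero hz)
    | succ n ih =>
      let e1 : ModuleCat.of R R ⊞ ModuleCat.of R (Fin n → R) ≅ ModuleCat.of R (Fin (n + 1) → R) :=
        ModuleCat.biprodIsoProd _ _ ≪≫ (Fin.consLinearEquiv R (fun _ : Fin (n + 1) => R)).toModuleIso
      exact P.prop_of_iso (((tilde.functor R).mapBiprod _ _).symm ≪≫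
        (tilde.functor R).mapIso e1) (hsum _ _ h1' ih)
  have := hR Q
  have hfin := key (Module.finrank R Q)
  exact P.prop_of_iso ((tilde.functor R).mapIso
    (Module.finBasis R Q).equivFun.symm.toModuleIso ≪≫ e) hfin

include hR in
/-- There are no maps from a coherent module in degree `b` to an object in degrees `< b`. -/
theorem hom_zero (M : (Spec R).Modules) (hM : Coh.IsCoh M) (b c : ℤ) (hbc : c < b)
    (Z : DCoh.D (Spec R)) (hZ : DCoh.IsQCohD Z) [Z.IsLE c]
    (φ : (singleFunctor _ b).obj M ⟶ Z) : φ = 0 := by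
  let P : ObjectProperty (Spec R).Modules :=
    fun M => ∀ φ : (singleFunctor _ b).obj M ⟶ Z, φ = 0
  have : P.IsClosedUnderIsomorphisms := ⟨fun {M N} e h φ => by
    have := h ((singleFunctor _ b).map e.hom ≫ φ)
    rwa [← cancel_epi ((singleFunctor _ b).map e.hom), comp_zero]⟩
  refine coh_induction hR P (fun N hN φ => ?_) (fun A B hA hB φ => ?_) ?_ M hM φ
  · exact ((singleFunctor _ b).map_isZero hN).eq_of_src _ _
  · have hA' := hA ((singleFunctor _ b).map biprod.inl ≫ φ)
    have hB' := hB ((singleFunctor _ b).map biprod.inr ≫ φ)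
    have : 𝟙 ((singleFunctor (Spec R).Modules b).obj (A ⊞ B)) ≫ φ = 0 := by
      rw [← CategoryTheory.Functor.map_id, ← biprod.total, Functor.map_add, Functor.map_comp, Functor.map_comp,
        Preadditive.add_comp, Category.assoc, Category.assoc, hA', hB', comp_zero, comp_zero, add_zero]
    rwa [Category.id_comp] at this
  · intro φ
    have h0 : IsZero (DCoh.HD Z b) := isZero_of_isLE Z c b hbc
    refine (PerfA.HypAffine.unit_bijective Z hZ b).1 ?_
    refine (Groth.Agent.Dcoh.Restrict.unitEquiv (DCoh.HD Z b)).symm.injective ?_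
    exact h0.eq_of_tgt _ _

include hR in
/-- **Dévissage over a field.** -/
theorem field_dev (P : ObjectProperty (DCoh.D (Spec R))) [P.IsClosedUnderIsomorphisms]
    (h0 : ∀ Z, IsZero Z → P Z) (hsum : ∀ A B, P A → P B → P (A ⊞ B)) (a : ℤ) (n : ℕ)
    (hO : ∀ i, a ≤ i → i < a + n → P ((singleFunctor _ i).obj (Coh.structureModule (Spec R))))
    (W : DCoh.D (Spec R)) (hW : DCoh.IsCohD W) (hge : W.IsGE a) (hle : W.IsLE (a + n - 1)) :
    P W := by
  induction n generalizing W with
  | zero =>
    refine h0 _ ?_
    have : W.IsLE (a - 1) := by simpa using hle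
    exact TStructure.t.isZero W (a - 1) a (by lia)
  | succ n ih =>
    have h1 := ih (fun i hi hi' => hO i hi (by push_cast; lia)) ((TStructure.t.truncLT (a + n)).obj W)
      (PerfA.QCohD.isCohD_truncLT hW _) inferInstance inferInstance
    have hge' : ((TStructure.t.truncGE (a + n)).obj W).IsGE (a + n) := inferInstance
    have hle' : ((TStructure.t.truncGE (a + n)).obj W).IsLE (a + n) := by
      have : a + ((n + 1 : ℕ) : ℤ) - 1 = a + n := by push_cast; lia
      rw [this] at hle
      infer_instance
    have hcoh := PerfA.QCohD.isCohD_truncGE hW (a + n)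
    obtain ⟨M, ⟨e⟩⟩ := exists_iso_singleFunctor_obj_of_isGE_of_isLE ((TStructure.t.truncGE (a + n)).obj W) (a + n)
    have hM : Coh.IsCoh M := PerfA.CohSerre.isCoh_of_iso
      (((homologyFunctor _ (a + n)).mapIso e) ≪≫ (singleFunctorCompHomologyFunctorIso _ (a + n)).app M) (hcoh (a + n))
    have h2 : P ((TStructure.t.truncGE (a + n)).obj W) := by
      have hb : PreservesBinaryBiproducts (singleFunctor (Spec R).Modules (a + n)) :=
        preservesBinaryBiproducts_of_preservesBiproducts _
      let P' : ObjectProperty (Spec R).Modules := fun M => P ((singleFunctor _ (a + n)).obj M)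
      have : P'.IsClosedUnderIsomorphisms := ⟨fun {M N} e h =>
        P.prop_of_iso ((singleFunctor _ (a + n)).mapIso e) h⟩
      refine P.prop_of_iso e.symm (coh_induction hR P' (fun N hN => h0 _ ?_) (fun A B hA hB => ?_) ?_ M hM)
      · exact (singleFunctor _ (a + n)).map_isZero hN
      · exact P.prop_of_iso ((singleFunctor _ (a + n)).mapBiprod A B).symm (hsum _ _ hA hB)
      · exact hO _ (by lia) (by push_cast; lia)
    have hδ : (TStructure.t.truncGEδLT (a + n)).app W = 0 := by
      rw [← cancel_epi e.inv, comp_zero]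
      have hz : (((TStructure.t.truncLT (a + n)).obj W)⟦(1 : ℤ)⟧).IsLE (a + n - 2) :=
        TStructure.t.isLE_shift _ (a + n - 1) 1 (a + n - 2)
      exact hom_zero hR M hM (a + n) (a + n - 2) (by lia) (((TStructure.t.truncLT (a + n)).obj W)⟦(1 : ℤ)⟧)
        (PerfA.QCohD.isQCohD_of_isCohD (PerfA.QCohD.isCohD_shift (PerfA.QCohD.isCohD_truncLT hW _) 1)) _
    obtain ⟨e3, -⟩ := exists_iso_binaryBiproduct_of_distTriang _ (TStructure.t.triangleLTGE_distinguished (a + n) W) hδ
    exact P.prop_of_iso e3.symm (hsum _ _ h1 h2)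

end K357.FieldDev
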