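import Groth.Agent.DEquiv.K353.Diag
import Groth.Agent.DEquiv.K357.BoxEval
import Groth.Agent.DEquiv.K357.FieldDev
import Groth.Agent.DEquiv.K237.BoxGen
import Groth.Agent.PerfC.DTens
import Groth.Agent.PerfC.ProjAbs291
import Groth.Agent.PerfC.RpushBound
import Groth.Agent.S1001
import Groth.Agent.Dcoh.Spread

/-!
# The functor `T ↦ Rq_* (Lp^* F ⊗ T)` on kernels `T ∈ D(X × X)`

* `isTriang_psi`: it is triangulated;
* `psi_diag`: it maps `Δ_* O_X` to `F`;
* `psi_box`: over a field, for `a` proper, it maps `E ⊠ G` to `La^* Ra_* (F ⊗ E) ⊗ G`;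
* `box_dev`: a property closed under sums and containing `G[-i]` for `i` in a range contains this.
-/

set_option autoImplicit false

universe u

open CategoryTheory CategoryTheory.Limits AlgebraicGeometry MonoidalCategory

attribute [local instance] HasDerivedCategory.standard

open scoped Groth.Agent.Dcoh.MonCat Groth.Agent.Dcoh.ModD

namespace K357.Psi

open K353.OnSub K353.Calc Groth.Agent Groth.Agent.Dcoh Groth.Agent.PerfC.IsoLocus Groth.Agent.Dual.H379

variable {X Y S : Scheme.{u}}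

lemma isTriang_tensorLeft (K : DCoh.D X) : IsTriang (tensorLeft K) := by
  obtain ⟨e⟩ := PerfDual.nonempty_objIso K
  exact (PerfC.DTens.isTriang_LTX_obj K).of_iso e

lemma isTriang_tensorRight (K : DCoh.D X) : IsTriang (tensorRight K) := by
  obtain ⟨e⟩ := braid K
  exact (isTriang_tensorLeft K).of_iso e.symm

section psi

variable (a : X ⟶ S) [DCoh.HasLpull (pullback.fst a a)] [DCoh.HasRpush (pullback.snd a a)]

/-- The functor `T ↦ Rq_* (Lp^* F ⊗ T)`. -/
noncomputable abbrev psi (F : DCoh.D X) : DCoh.D (pullback a a) ⥤ DCoh.D X :=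
  tensorLeft ((DCoh.Lpull (pullback.fst a a)).obj F) ⋙ DCoh.Rpush (pullback.snd a a)

lemma isTriang_psi (F : DCoh.D X) : IsTriang (psi a F) :=
  (isTriang_tensorLeft _).comp (PerfC.ProjAbs291.isTriang_Rpush _)

/-- `Δ_* O_X` is mapped to `F`. -/
lemma psi_diag [IsSeparated a] (F : DCoh.D X) (hF : qc X F) : Nonempty ((psi a F).obj (FMK.diagO a) ≅ F) := by
  have := hasRpush (pullback.diagonal a)
  have := hasLpull (𝟙 X)
  have := hasRpush (𝟙 X)
  obtain ⟨e1⟩ := K353.Diag.diagO_iso a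
  obtain ⟨e3⟩ := K353.Conv.fm_congr (pullback.fst a a) (pullback.snd a a) e1
  have h : IsoOn (qc X) (K353.Conv.fm (pullback.fst a a) (pullback.snd a a) (FMK.diagO a)) (𝟭 (DCoh.D X)) := by
    refine (IsoOn.of_iso e3).trans (IsoOn.trans ?_ (IsoOn.of_nonempty (K353.Diag.fm_id X)))
    exact K353.Conv.fm_push (pullback.diagonal a) _ _ _ _ (pullback.diagonal_fst a) (pullback.diagonal_snd a) _
      DQMon.isQCohD_unit
  exact h.app hF

/-- `E ⊠ G` as an object of the derived category. -/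
lemma box_iso [DCoh.HasLpull (pullback.snd a a)] (E G : X.Modules) (hE : FlatMod.IsFinLocFree E)
    (hG : FlatMod.IsFinLocFree G) :
    Nonempty (DCoh.inD (pullback a a) (K237.BoxGen.box a a E G) ≅
      (DCoh.Lpull (pullback.fst a a)).obj (DCoh.inD X E) ⊗ (DCoh.Lpull (pullback.snd a a)).obj (DCoh.inD X G)) := by
  have hE' : FlatMod.IsFlat E := Dcoh.Spread.isFlat_of_isFinLocFree hE
  have hG' : FlatMod.IsFlat G := Dcoh.Spread.isFlat_of_isFinLocFree hG
  obtain ⟨e1⟩ := BoxEval.lpull_inD (pullback.fst a a) E hE'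
  obtain ⟨e2⟩ := BoxEval.lpull_inD (pullback.snd a a) G hG'
  obtain ⟨e3⟩ := BoxEval.inD_tensor ((Scheme.Modules.pullback (pullback.fst a a)).obj E)
    ((Scheme.Modules.pullback (pullback.snd a a)).obj G) (Dcoh.Spread.isFlat_of_isFinLocFree
      (PerfC.PullRestrict.isFinLocFree_pullback _ hG))
  exact ⟨e3.symm ≪≫ (e1.symm ⊗ᵢ e2.symm)⟩

lemma psi_box [QuasiCompact a] [QuasiSeparated a] [Flat a] [DCoh.HasRpush a] [DCoh.HasLpull a]
    (F : DCoh.D X) (hF : qc X F) (E G : X.Modules) (hE : FlatMod.IsFinLocFree E) (hG : FlatMod.IsFinLocFree G) :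
    Nonempty ((psi a F).obj (DCoh.inD (pullback a a) (K237.BoxGen.box a a E G)) ≅
      (DCoh.Lpull a).obj ((DCoh.Rpush a).obj (F ⊗ DCoh.inD X E)) ⊗ DCoh.inD X G) := by
  have := hasLpull (pullback.snd a a)
  obtain ⟨e⟩ := box_iso a E G hE hG
  exact BoxEval.box_eval (IsPullback.of_hasPullback a a) (Or.inl inferInstance) F (DCoh.inD X E) (DCoh.inD X G)
    hF (PerfA.QCohD.isQCohD_inD _ (PerfA.QCohEpi.isQCoh_of_isFinLocFree hE))
    (PerfA.QCohD.isQCohD_inD _ (PerfA.QCohEpi.isQCoh_of_isFinLocFree hG)) _ e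

end psi

section theta

variable (a : X ⟶ S) [DCoh.HasLpull a]

/-- The functor `W ↦ La^* W ⊗ G`. -/
noncomputable abbrev theta (G : DCoh.D X) : DCoh.D S ⥤ DCoh.D X := DCoh.Lpull a ⋙ tensorRight G

lemma isTriang_theta (G : DCoh.D X) : IsTriang (theta a G) :=
  (PerfC.ProjAbs291.isTriang_Lpull _).comp (isTriang_tensorRight _)

lemma theta_single (G : DCoh.D X) (i : ℤ) :
    Nonempty ((theta a G).obj ((DerivedCategory.singleFunctor S.Modules i).obj (Coh.structureModule S)) ≅ G⟦-i⟧) := by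
  obtain ⟨_, _⟩ := isTriang_theta a G
  let e1 : (DerivedCategory.singleFunctor S.Modules i).obj (Coh.structureModule S) ≅
      ((DerivedCategory.singleFunctor S.Modules 0).obj (Coh.structureModule S))⟦-i⟧ :=
    (((DerivedCategory.singleFunctors S.Modules).shiftIso (-i) i 0 (by simp)).app (Coh.structureModule S)).symm
  let := DQMon.lpullMon a
  let e2 : (DCoh.Lpull a).obj (𝟙_ (DCoh.D S)) ≅ 𝟙_ (DCoh.D X) := (Functor.Monoidal.εIso (DCoh.Lpull a)).symm
  let e3 : (theta a G).obj ((DerivedCategory.singleFunctor S.Modules 0).obj (Coh.structureModule S)) ≅ G :=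
    (theta a G).mapIso (DualX.unitIso S) ≪≫ whiskerRightIso e2 G ≪≫ λ_ G
  exact ⟨(theta a G).mapIso e1 ≪≫ ((theta a G).commShiftIso (-i)).app _ ≪≫ (shiftFunctor (DCoh.D X) (-i)).mapIso e3⟩

end theta

end K357.Psi
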