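import Groth.Agent.S1031
import Mathlib.CategoryTheory.Triangulated.Functor
import Mathlib.CategoryTheory.Preadditive.AdditiveFunctor

/-!
# Triangulated functors and triangulated envelopes

`map_iter`: a triangulated functor `F` sending `P` into `⟨Q⟩₀` sends `⟨P⟩ₙ` into `⟨Q⟩ₙ`.
-/

set_option autoImplicit false

open CategoryTheory CategoryTheory.Limits CategoryTheory.Pretriangulated CategoryTheory.ObjectProperty

namespace K357.EnvMap

universe v v' u u'

section

variable {C : Type u} [Category.{v} C]

theorem limitsClosure_le_of (P Q : ObjectProperty C) [Q.IsClosedUnderIsomorphisms]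
    [Q.IsClosedUnderLimitsOfShape (Discrete WalkingPair)] (h : P ≤ Q) : P.binaryProductsClosure ≤ Q :=
  limitsClosure_le h

end

variable {C : Type u} [Category.{v} C] [Preadditive C] [HasZeroObject C] [HasShift C ℤ]
  [∀ n : ℤ, (shiftFunctor C n).Additive] [Pretriangulated C]
  {D : Type u'} [Category.{v'} D] [Preadditive D] [HasZeroObject D] [HasShift D ℤ]
  [∀ n : ℤ, (shiftFunctor D n).Additive] [Pretriangulated D]

/-- `⟨P⟩₀` -/
abbrev E0 (P : ObjectProperty C) : ObjectProperty C := (P.shiftClosure ℤ).binaryProductsClosure.retractClosure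

omit [Preadditive C] [HasZeroObject C] [∀ n : ℤ, (shiftFunctor C n).Additive] [Pretriangulated C] in
theorem E0_le (P Q : ObjectProperty C) [Q.IsStableUnderRetracts] [Q.IsStableUnderShift ℤ]
    [Q.IsClosedUnderLimitsOfShape (Discrete WalkingPair)] (h : P ≤ Q) : E0 P ≤ Q := by
  rw [retractClosure_le_iff]
  apply limitsClosure_le_of
  rwa [shiftClosure_le_iff]

instance isClosedUnderBinaryProducts_iter (P : ObjectProperty C) (n : ℕ) :
    (P.triangEnvelopeIter n).IsClosedUnderBinaryProducts :=
  Groth.Agent.S1031.isClosedUnderBinaryProducts_of_clProd _ (Groth.Agent.S1031.clProd_triangEnvelopeIter P n)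

instance isClosedUnderBinaryProducts_E0 (P : ObjectProperty C) :
    (E0 P).IsClosedUnderLimitsOfShape (Discrete WalkingPair) := by
  have := isClosedUnderBinaryProducts_iter P 0
  rwa [triangEnvelopeIter_zero] at this

variable (F : C ⥤ D)

instance inverseImage_shift [F.CommShift ℤ] (Q : ObjectProperty D) [Q.IsStableUnderShift ℤ]
    [Q.IsClosedUnderIsomorphisms] : (Q.inverseImage F).IsStableUnderShift ℤ where
  isStableUnderShiftBy n := IsStableUnderShiftBy.mk (fun X hX =>
    Q.prop_of_iso ((F.commShiftIso n).app X).symm (Q.le_shift n _ hX))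

instance inverseImage_retract (Q : ObjectProperty D) [Q.IsStableUnderRetracts] :
    (Q.inverseImage F).IsStableUnderRetracts where
  of_retract r h := Q.prop_of_retract (r.map F) h

theorem map_E0 [F.CommShift ℤ] [F.IsTriangulated] (P : ObjectProperty C) (Q : ObjectProperty D)
    (h : P ≤ (E0 Q).inverseImage F) : E0 P ≤ (E0 Q).inverseImage F := by
  have : F.Additive := inferInstance
  have : PreservesFiniteProducts F := inferInstance
  have : PreservesLimitsOfShape (Discrete WalkingPair) F := inferInstance
  exact E0_le P _ h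

theorem map_iter [F.CommShift ℤ] [F.IsTriangulated] (P : ObjectProperty C) (Q : ObjectProperty D)
    (h : P ≤ (E0 Q).inverseImage F) (n : ℕ) :
    P.triangEnvelopeIter n ≤ (Q.triangEnvelopeIter n).inverseImage F := by
  have h0 := map_E0 F P Q h
  have key : (E0 P).extensionProductIter n ≤ ((E0 Q).extensionProductIter n).inverseImage F := by
    induction n with
    | zero => exact h0
    | succ n ih =>
      rw [extensionProductIter_succ, extensionProductIter_succ]
      rintro Z ⟨X, Y, a, b, c, hT, hX, hY⟩
      exact ⟨_, _, _, _, _, F.map_distinguished _ hT, h0 _ hX, ih _ hY⟩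
  rintro X ⟨Y, hY, ⟨r⟩⟩
  exact ⟨F.obj Y, key _ hY, ⟨r.map F⟩⟩

end K357.EnvMap
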