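import Groth.Agent.PerfC.IsoLocus
import Mathlib.CategoryTheory.Triangulated.HomologicalFunctor
import Mathlib.CategoryTheory.Triangulated.Generators

/-!
# Uniform bounds for homological functors on a triangulated subcategory

`H : P.FullSubcategory ⥤ A` is homological.  `bdd H m K`: `K` is in `P` and `H(K⟦j⟧) = 0` for `j ∉ [-m, m]`.
`unif H Ψ`: for a family `Ψ i : D ⥤ C` of triangulated functors, the objects `T` such that `bdd H m (Ψ i T)` for some `m`
independent of `i`; this is a triangulated subcategory closed under retracts.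
-/

set_option autoImplicit false
set_option linter.unusedSectionVars false

open CategoryTheory CategoryTheory.Limits CategoryTheory.Pretriangulated CategoryTheory.ObjectProperty
open Groth.Agent.PerfC.IsoLocus
open scoped ZeroObject

namespace K357.HBound

universe w v v' v'' u u' u''

variable {C : Type u} [Category.{v} C] [Preadditive C] [HasZeroObject C] [HasShift C ℤ]
  [∀ n : ℤ, (shiftFunctor C n).Additive] [Pretriangulated C]
  {D : Type u'} [Category.{v'} D] [Preadditive D] [HasZeroObject D] [HasShift D ℤ]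
  [∀ n : ℤ, (shiftFunctor D n).Additive] [Pretriangulated D]
  {A : Type u''} [Category.{v''} A] [Abelian A]
  {P : ObjectProperty C} [P.IsTriangulated] [P.IsClosedUnderIsomorphisms] [P.IsStableUnderRetracts]
  (H : P.FullSubcategory ⥤ A) [H.IsHomological]

/-- `K` is in `P` and `H(K⟦j⟧) = 0` for `j ∉ [-m, m]`. -/
def bdd (m : ℕ) : ObjectProperty C := fun K => ∃ hK : P K, ∀ j : ℤ, (j < -(m : ℤ) ∨ (m : ℤ) < j) →
  IsZero (H.obj ((shiftFunctor P.FullSubcategory j).obj ⟨K, hK⟩))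

instance (m : ℕ) : (bdd H m).IsClosedUnderIsomorphisms where
  of_iso {K L} e h := by
    obtain ⟨hK, h⟩ := h
    have hL : P L := P.prop_of_iso e hK
    let e' : (⟨K, hK⟩ : P.FullSubcategory) ≅ ⟨L, hL⟩ := P.ι.preimageIso e
    exact ⟨hL, fun j hj => (h j hj).of_iso (H.mapIso ((shiftFunctor _ j).mapIso e'.symm))⟩

lemma bdd_mono {m n : ℕ} (hmn : m ≤ n) {K : C} (h : bdd H m K) : bdd H n K :=
  ⟨h.1, fun j hj => h.2 j (by lia)⟩

lemma bdd_of_retract {m : ℕ} {K L : C} (r : Retract K L) (h : bdd H m L) : bdd H m K := by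
  obtain ⟨hL, h⟩ := h
  have hK : P K := P.prop_of_retract r hL
  let r' : Retract (⟨K, hK⟩ : P.FullSubcategory) ⟨L, hL⟩ :=
    ⟨P.ι.preimage r.i, P.ι.preimage r.r, P.ι.map_injective (by
      rw [Functor.map_comp, Functor.map_preimage, Functor.map_preimage, CategoryTheory.Functor.map_id]
      exact r.retract)⟩
  refine ⟨hK, fun j hj => ?_⟩
  have r'' := (r'.map (shiftFunctor _ j)).map H
  rw [IsZero.iff_id_eq_zero, ← r''.retract, (h j hj).eq_of_tgt r''.i 0, zero_comp]

lemma bdd_of_isZero (m : ℕ) {K : C} (h : IsZero K) : bdd H m K := by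
  obtain ⟨Z, hZ, hPZ⟩ := P.exists_prop_of_containsZero
  have hK : P K := P.prop_of_isZero h
  refine ⟨hK, fun j _ => ?_⟩
  have h' : IsZero (⟨K, hK⟩ : P.FullSubcategory) := by
    rw [IsZero.iff_id_eq_zero]
    exact P.ι.map_injective (h.eq_of_src _ _)
  exact H.map_isZero ((shiftFunctor _ j).map_isZero h')

lemma bdd_shift {m : ℕ} {K : C} (h : bdd H m K) (i : ℤ) : bdd H (m + i.natAbs) (K⟦i⟧) := by
  obtain ⟨hK, h⟩ := h
  have hKi : P (K⟦i⟧) := P.le_shift i _ hK
  refine ⟨hKi, fun j hj => ?_⟩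
  let e : (⟨K⟦i⟧, hKi⟩ : P.FullSubcategory) ≅ (shiftFunctor P.FullSubcategory i).obj ⟨K, hK⟩ :=
    P.ι.preimageIso ((P.ι.commShiftIso i).app ⟨K, hK⟩).symm
  have h1 := h (i + j) (by lia)
  exact h1.of_iso (H.mapIso ((shiftFunctor _ j).mapIso e ≪≫ ((shiftFunctorAdd P.FullSubcategory i j).app _).symm))

lemma bdd_ext {m : ℕ} (T : Triangle C) (hT : T ∈ distTriang C) (h₁ : bdd H m T.obj₁) (h₃ : bdd H m T.obj₃) :
    bdd H m T.obj₂ := by
  have hP2 : P T.obj₂ := P.ext_of_isTriangulatedClosed₂ T hT h₁.1 h₃.1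
  let f : (⟨T.obj₁, h₁.1⟩ : P.FullSubcategory) ⟶ ⟨T.obj₂, hP2⟩ := P.ι.preimage T.mor₁
  have hf : P.ι.map f = T.mor₁ := P.ι.map_preimage _
  obtain ⟨Z, g, h, hT'⟩ := distinguished_cocone_triangle f
  have hT'' := P.ι.map_distinguished _ hT'
  obtain ⟨e, -⟩ := exists_iso_of_arrow_iso _ _ hT'' hT
    (Arrow.isoMk (Iso.refl _) (Iso.refl _) ((Category.id_comp _).trans
      (hf.symm.trans (Category.comp_id _).symm)))
  have e3 : Z.obj ≅ T.obj₃ := Triangle.π₃.mapIso e
  have hZ : bdd H m Z.obj := (bdd H m).prop_of_iso e3.symm h₃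
  refine ⟨hP2, fun j hj => ?_⟩
  exact (H.map_distinguished_exact _ (Triangle.shift_distinguished _ hT' j)).isZero_of_both_zeros
    ((h₁.2 j hj).eq_of_src _ _) ((hZ.2 j hj).eq_of_tgt _ _)

lemma bdd_biprod {m : ℕ} {K L : C} (hK : bdd H m K) (hL : bdd H m L) : bdd H m (K ⊞ L) :=
  bdd_ext H _ (binaryBiproductTriangle_distinguished K L) hK hL

/-- A finiteness condition gives a bound for each object. -/
lemma exists_bdd (hfin : ∀ K : P.FullSubcategory,
    Set.Finite {i : ℤ | ¬ IsZero (H.obj ((shiftFunctor P.FullSubcategory i).obj K))}) (K : C) (hK : P K) :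
    ∃ m, bdd H m K := by
  obtain ⟨a, ha⟩ := (hfin ⟨K, hK⟩).bddAbove
  obtain ⟨b, hb⟩ := (hfin ⟨K, hK⟩).bddBelow
  refine ⟨max a.natAbs b.natAbs, hK, fun j hj => ?_⟩
  by_contra hne
  have h1 : j ≤ a := ha hne
  have h2 : b ≤ j := hb hne
  lia

variable {ι : Type w} (Ψ : ι → D ⥤ C)

/-- The objects `T` such that `bdd H m (Ψ i T)` for some `m` independent of `i`. -/
def unif : ObjectProperty D := fun T => ∃ m, ∀ i, bdd H m ((Ψ i).obj T)

variable {Ψ} (hΨ : ∀ i, IsTriang (Ψ i))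

instance : (unif H Ψ).IsStableUnderRetracts where
  of_retract r h := by
    obtain ⟨m, hm⟩ := h
    exact ⟨m, fun i => bdd_of_retract H (r.map (Ψ i)) (hm i)⟩

include hΨ in
lemma isTriangulated_unif : (unif H Ψ).IsTriangulated where
  exists_zero := ⟨0, isZero_zero _, 0, fun i => bdd_of_isZero H 0 (by
    obtain ⟨_, _⟩ := hΨ i
    exact (Ψ i).map_isZero (isZero_zero _))⟩
  isStableUnderShiftBy n := ⟨by
    rintro T ⟨m, hm⟩
    refine ⟨m + n.natAbs, fun i => ?_⟩
    obtain ⟨_, _⟩ := hΨ i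
    exact (bdd H _).prop_of_iso (((Ψ i).commShiftIso n).app T).symm (bdd_shift H (hm i) n)⟩
  ext₂' := by
    rintro T hT ⟨m, hm⟩ ⟨n, hn⟩
    refine le_isoClosure _ _ ⟨max m n, fun i => ?_⟩
    obtain ⟨_, _⟩ := hΨ i
    exact bdd_ext H _ ((Ψ i).map_distinguished T hT) (bdd_mono H (le_max_left _ _) (hm i))
      (bdd_mono H (le_max_right _ _) (hn i))

end K357.HBound
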