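import Groth.Agent.DEquiv.K357.StrongGen
import Groth.Agent.DEquiv.K357.HBound
import Groth.Agent.PerfA.PerfThick

/-!
# Homological functors on the perfect objects of a smooth proper scheme are bounded on coherent modules
-/

set_option autoImplicit false

universe v' u u'

open CategoryTheory CategoryTheory.Limits AlgebraicGeometry MonoidalCategory DerivedCategory

attribute [local instance] HasDerivedCategory.standard

open scoped Groth.Agent.Dcoh.MonCat Groth.Agent.Dcoh.ModD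

namespace K357.HCoh

open K353.OnSub K353.Calc Groth.Agent Groth.Agent.Dcoh Groth.Agent.PerfC.IsoLocus Psi HBound

variable {k : Type u} [Field k] {X : Scheme.{u}} (a : X ⟶ Spec (.of k)) [IsProper a] [Smooth a]

instance (Y : Scheme.{u}) : ObjectProperty.IsClosedUnderIsomorphisms (fun K : DCoh.D Y => DCoh.IsPerfect K) :=
  ⟨fun e h => PerfA.PerfLocal.isPerfect_of_iso e h⟩

instance (Y : Scheme.{u}) : ObjectProperty.IsStableUnderRetracts (fun K : DCoh.D Y => DCoh.IsPerfect K) :=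
  ⟨fun r h => PerfA.PerfThick.isPerfect_of_retract r.i r.r r.retract h⟩

include a in
theorem main [ObjectProperty.IsTriangulated (fun K : DCoh.D X => DCoh.IsPerfect K)]
    {A : Type u'} [Category.{v'} A] [Abelian A]
    (H : (ObjectProperty.FullSubcategory (fun K : DCoh.D X => DCoh.IsPerfect K)) ⥤ A) [H.IsHomological]
    (hfin : ∀ K : (ObjectProperty.FullSubcategory (fun K : DCoh.D X => DCoh.IsPerfect K)),
      Set.Finite {i : ℤ | ¬ IsZero (H.obj ((shiftFunctor (ObjectProperty.FullSubcategory (fun K : DCoh.D X => DCoh.IsPerfect K)) i).obj K))}) :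
    ∃ m : ℕ, 1 ≤ m ∧ ∀ (F : X.Modules), Coh.IsCoh F → ∀ (hF : DCoh.IsPerfect (DCoh.inD X F)) (i : ℤ),
      (i < -(m : ℤ) ∨ (m : ℤ) < i) →
        IsZero (H.obj ((shiftFunctor (ObjectProperty.FullSubcategory (fun K : DCoh.D X => DCoh.IsPerfect K)) i).obj ⟨DCoh.inD X F, hF⟩)) := by
  have : CompactSpace X := QuasiCompact.compactSpace_of_compactSpace a
  have := hasRpush a
  have := hasLpull (pullback.fst a a)
  have := hasRpush (pullback.snd a a)
  have hX := DiagEnv.isNoetherian k X a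
  obtain ⟨E, G, hE, hG, hmem⟩ := DiagEnv.diag_mem k X a
  have hGp := PerfA.PerfLocal.isPerfect_inD_of_isFinLocFree hG
  obtain ⟨mG, hmG⟩ := exists_bdd H hfin _ hGp
  obtain ⟨N, hN⟩ := PerfC.RpushBound.exists_isLE_Rpush a
  let Ψ : {F : X.Modules // Coh.IsCoh F} → DCoh.D (pullback a a) ⥤ DCoh.D X := fun F => psi a (DCoh.inD X F.1)
  have hΨ : ∀ F, IsTriang (Ψ F) := fun F => isTriang_psi a _
  have hR : (unif H Ψ).IsTriangulated := isTriangulated_unif H hΨ
  have key : unif H Ψ (DCoh.inD (pullback a a) (DiagEnv.ODelta k X a)) := by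
    refine (ObjectProperty.triangEnvelope_le_iff _).2 ?_ _ hmem
    rintro _ ⟨⟩
    refine ⟨mG + (N.natAbs + 1), fun F => ?_⟩
    have hFp : DCoh.IsPerfect (DCoh.inD X F.1) :=
      S1005.result X (DiagEnv.isRegular k X a) _ 0 0 (PerfA.QCohD.isCohD_inD _ F.2)
    have hFE : DCoh.IsPerfect (DCoh.inD X F.1 ⊗ DCoh.inD X E) :=
      PerfTens.isPerfect_tensor hFp (PerfA.PerfLocal.isPerfect_inD_of_isFinLocFree hE)
    have hc := (S1006.result X _ hFE).1
    obtain ⟨e⟩ := BoxEval.inD_tensor F.1 E (Dcoh.Spread.isFlat_of_isFinLocFree hE)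
    have h1 : (DCoh.inD X F.1 ⊗ DCoh.inD X E).IsGE 0 := TStructure.t.isGE_of_iso e.symm 0
    have h2 : (DCoh.inD X F.1 ⊗ DCoh.inD X E).IsLE 0 := TStructure.t.isLE_of_iso e.symm 0
    obtain ⟨g1, g2, -⟩ := S1001.result a (DCoh.inD X F.1 ⊗ DCoh.inD X E) 0 0 hc (StrongGen.isProperOver_support a _ hc)
    have g3 := hN _ 0 (PerfA.QCohD.isQCohD_of_isCohD hc) h2
    refine StrongGen.psi_box_mem a (bdd H _) (fun Z hZ => bdd_of_isZero H _ hZ)
      (fun A B hA hB => bdd_biprod H hA hB) E G hE hG 0 (N.natAbs + 1) (fun i hi hi' => ?_) _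
      (PerfA.QCohD.isQCohD_inD _ F.2.1) g1 g2 (TStructure.t.isLE_of_le _ (0 + N) _ (by lia))
    exact bdd_mono H (by lia) (bdd_shift H hmG (-i))
  obtain ⟨m, hm⟩ := key
  refine ⟨m + 1, by lia, fun F hF hFp i hi => ?_⟩
  obtain ⟨e⟩ := psi_diag a (DCoh.inD X F) (PerfA.QCohD.isQCohD_inD _ hF.1)
  have h := (bdd H m).prop_of_iso e (hm ⟨F, hF⟩)
  exact h.2 i (by lia)

end K357.HCoh
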