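import Groth.Agent.HodgeNum.K882.AmpleVan
import Groth.Agent.Flat2D.SliceQF
import Groth.Agent.CohDim.K685.ResolAmple
import Groth.Agent.VBPn.K700.HomVan
import Groth.Prelude.Def_Models

/-!
# Negative twists have no sections on regular proper schemes without isolated points

* `exists_bound`: `Γ(X, E ⊗ L^{-n}) = 0` for `n ≫ 0`, `E` finite locally free;
* `exists_hom_eq_zero`: `Hom(F, E ⊗ L^{-n}) = 0` for `n ≫ 0`, `F` coherent, `E` finite locally free.
-/

set_option autoImplicit false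
universe u

open CategoryTheory CategoryTheory.Limits AlgebraicGeometry
open K882.Coho K882.IsoMon K882.Divisor
open Groth.Agent

namespace K357.NegAmple

variable (k : Type u) [Field k] {X : Scheme.{u}} [X.Over (Spec (CommRingCat.of k))]
  [IsProper (X ↘ Spec (CommRingCat.of k))] (hreg : Models.IsRegularScheme X)
  (hiso : ∀ x : X, IsClosed ({x} : Set X) → ¬ IsOpen ({x} : Set X))
  {L P : X.Modules} (hL : CohB1.IsAmple L) (hLP : ClSub.IsInverseOf L P)

include k hreg hiso hL hLP in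
/-- `Γ(X, E ⊗ L^{-n}) = 0` for `n ≫ 0`. -/
theorem exists_bound {E : X.Modules} (hE : FlatMod.IsFinLocFree E) :
    ∃ n₀ : ℕ, ∀ n : ℕ, n₀ ≤ n → Subsingleton (Coh.HH X (CohB1.tensorMod E (CohB1.tensorPow P n)) 0) := by
  have : IsLocallyNoetherian X := LocallyOfFiniteType.isLocallyNoetherian (X ↘ Spec (CommRingCat.of k))
  have hEc : Coh.IsCoh E := PerfA.CohSerre.isCoh_of_isFinLocFree hE
  obtain ⟨m₀, hm₀⟩ := Sga2.ESZ.esz k X hLP hL E hEc 0 (by
    intro x hx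
    have := hreg x
    obtain ⟨N, hN⟩ : ∃ N : ℕ, ringKrullDim (X.presheaf.stalk x) = N :=
      ⟨_, IsRegularLocalRing.spanFinrank_maximalIdeal.symm⟩
    refine lt_of_lt_of_le ?_ (Sga2lef.H503.RegNil.le_depth_flf hEc hE x hN)
    rcases Nat.eq_zero_or_pos N with rfl | h
    · exact absurd (Flat2D.SliceQF.isOpen_singleton_of_dim_zero x hx (le_of_eq hN)) (hiso x hx)
    · exact_mod_cast h)
  exact ⟨m₀, fun n hn => hm₀ n hn 0 le_rfl⟩

include k hreg hiso hL hLP in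
/-- `Hom(F, E ⊗ L^{-n}) = 0` for `n ≫ 0`. -/
theorem exists_hom_eq_zero {E : X.Modules} (hE : FlatMod.IsFinLocFree E) {F : X.Modules} (hF : Coh.IsCoh F) :
    ∃ n₀ : ℕ, ∀ n : ℕ, n₀ ≤ n → ∀ φ : F ⟶ CohB1.tensorMod E (CohB1.tensorPow P n), φ = 0 := by
  have hPL : ClSub.IsInverseOf P L := isInverseOf_iff.2 (by rw [mul_comm]; exact isInverseOf_iff.1 hLP)
  have hP : PicF.IsInvertible P := K685.ResolAmple.isInvertible_of_isInverseOf hL.1 hPL
  obtain ⟨e⟩ := id hLP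
  obtain ⟨N, -, κ, hκ, φ, hφ⟩ := VarietyA.AmpleNegPow.exists_epi hL e 0 hF.1 hF.2
  have hLN : FlatMod.IsFinLocFree (CohB1.tensorPow L N) :=
    K685.ResolAmple.isFinLocFree_of_isInvertible (Fdesc.LocGen.isInvertible_tensorPow hL.1 N)
  have hPN : PicF.IsInvertible (CohB1.tensorPow P N) := Fdesc.LocGen.isInvertible_tensorPow hP N
  obtain ⟨n₀, hn₀⟩ := exists_bound k hreg hiso hL hLP (flf_tensor hE hLN)
  refine ⟨n₀, fun n hn ψ => ?_⟩
  rw [← cancel_epi (Sigma.desc φ), comp_zero]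
  refine Sigma.hom_ext _ _ fun i => ?_
  rw [comp_zero, Sigma.ι_desc_assoc]
  refine K700.HomVan.hom_eq_zero hPN (fun A hA hm => ?_) _
  have h1 := hn₀ n hn
  have h2 : c A * c (CohB1.tensorPow P N) = 1 := by
    have h3 := mul_inv_cancel (Grpsch.PicGrp.mk (CohB1.tensorPow P N) hPN)
    rw [← hm, Grpsch.PicGrp.mk_mul_mk, Grpsch.PicGrp.mk_eq_one_iff] at h3
    rw [mul_comm, ← c_tensor, ← c_unit, c_eq_iff]
    exact h3
  have h4 : c L ^ N * c P ^ N = 1 := by rw [← mul_pow, isInverseOf_iff.1 hLP, one_pow]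
  have h5 : c A = c L ^ N := by
    rw [← mul_one (c A), ← h4, mul_left_comm, ← c_pow P N, h2, mul_one]
  refine van_c ?_ 0 h1
  rw [c_tensor, c_tensor, c_tensor, c_tensor, c_pow, c_pow, h5, mul_right_comm]

include k hreg hiso hL hLP in
/-- `Hom(F, L^{-n}) = 0` for `n ≫ 0`. -/
theorem exists_hom_pow_eq_zero {F : X.Modules} (hF : Coh.IsCoh F) :
    ∃ n₀ : ℕ, ∀ n : ℕ, n₀ ≤ n → ∀ φ : F ⟶ CohB1.tensorPow P n, φ = 0 := by
  obtain ⟨n₀, hn₀⟩ := exists_hom_eq_zero k hreg hiso hL hLP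
    (K685.ResolAmple.isFinLocFree_of_isInvertible (Fdesc.LocGen.isInvertible_tensorPow hL.1 0)) hF
  refine ⟨n₀, fun n hn φ => ?_⟩
  obtain ⟨e⟩ : Nonempty (CohB1.tensorPow P n ≅ CohB1.tensorMod (CohB1.tensorPow L 0) (CohB1.tensorPow P n)) := by
    rw [← c_eq_iff, c_tensor, c_pow L 0, pow_zero, one_mul]
  rw [← cancel_mono e.hom, zero_comp]
  exact hn₀ n hn _

end K357.NegAmple
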