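import Groth.Agent.FormalA.AnnIdeal
import Groth.Agent.Flat2C.AffineThickening
import Groth.Agent.PerfC.RpushSingle
import Groth.Agent.PerfC.RpushAffine
import Groth.Agent.PerfC.RpushTrunc
import Groth.Agent.LoccohB.TopRepBound
import Groth.Agent.LoccohA.DzTrunc
import Groth.Agent.Krr.H485.LerayCl
import Groth.Agent.Dcoh.DerSch

/-!
# Direct image of sheaves with support finite over the base

`q : W ⟶ Y`, `G` a coherent module whose support (with its reduced structure) is finite, or just affine, over `Y`.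
Then `R^n q_* G = 0` for `n > 0` and `Rq_*(G[0]) = (q_* G)[0]`, naturally in `G`.

* `isAffineHom_of_thickening`: being affine can be tested after a surjective closed immersion;
* `isAffineHom_ann`: the closed subscheme of the annihilator of `G` is affine over `Y`;
* `isZero_Rpush`: `R^n q_* G = 0`, `n > 0`;
* `single_of_homology`: a functor to a derived category whose values are concentrated in degree `0` is
  isomorphic to its `H^0` placed in degree `0`;
* `nonempty_iso`: the natural isomorphism `Rq_*(G[0]) ≅ (q_* G)[0]`.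
-/

set_option autoImplicit false
universe v v' w u u'

open CategoryTheory CategoryTheory.Limits AlgebraicGeometry TopologicalSpace Opposite
open Groth.Agent
attribute [local instance] HasDerivedCategory.standard

noncomputable section

namespace K357.SibPush

/-- Affineness of a morphism can be tested on a surjective closed subscheme of the source. -/
theorem isAffineHom_of_thickening {Z₀ Z Y : Scheme.{u}} (t : Z₀ ⟶ Z) [IsClosedImmersion t] [Surjective t]
    (g : Z ⟶ Y) [IsAffineHom (t ≫ g)] : IsAffineHom g := by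
  refine ⟨fun U hU => ?_⟩
  have h1 : IsAffineOpen ((t ≫ g) ⁻¹ᵁ U) := IsAffineHom.isAffine_preimage U hU
  have h2 : IsAffine ((t ⁻¹ᵁ (g ⁻¹ᵁ U) : Z₀.Opens) : Scheme.{u}) := h1
  have h3 : IsClosedImmersion (t ∣_ (g ⁻¹ᵁ U)) := inferInstance
  have h4 : Surjective (t ∣_ (g ⁻¹ᵁ U)) :=
    IsZariskiLocalAtTarget.restrict (P := @Surjective) inferInstance _
  exact Flat2C.AffineThickening.isAffine_of_thickening (t ∣_ (g ⁻¹ᵁ U))

variable {W Y : Scheme.{u}} (q : W ⟶ Y)

/-- If the reduced support of `G` is affine over `Y` then so is the subscheme of the annihilator of `G`. -/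
theorem isAffineHom_ann (G : W.Modules) (hq : Coh.IsQCoh G) (hft : CohB1.IsFT G)
    (hZ : IsClosed (CohB1.support G))
    [IsAffineHom ((Scheme.IdealSheafData.vanishingIdeal ⟨CohB1.support G, hZ⟩).subschemeι ≫ q)] :
    IsAffineHom ((FormalA.AnnIdeal.annIdeal G hq hft).subschemeι ≫ q) := by
  set I := FormalA.AnnIdeal.annIdeal G hq hft with hI
  have hs : (I.support : Set W) = CohB1.support G := FormalA.AnnIdeal.support_annIdeal G hq hft
  have hle : I ≤ Scheme.IdealSheafData.vanishingIdeal ⟨CohB1.support G, hZ⟩ := by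
    rw [← Scheme.IdealSheafData.le_support_iff_le_vanishingIdeal]
    intro x hx
    change x ∈ (I.support : Set W)
    rw [hs]
    exact hx
  let t := Scheme.IdealSheafData.inclusion hle
  have ht : t ≫ I.subschemeι = (Scheme.IdealSheafData.vanishingIdeal ⟨CohB1.support G, hZ⟩).subschemeι :=
    Scheme.IdealSheafData.inclusion_subschemeι hle
  have h1 : IsClosedImmersion t := by
    have : IsClosedImmersion (t ≫ I.subschemeι) := by rw [ht]; infer_instance
    exact IsClosedImmersion.of_comp t I.subschemeι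
  have h2 : Surjective t := by
    refine ⟨fun z => ?_⟩
    have hz : I.subschemeι z ∈ Set.range
        (Scheme.IdealSheafData.vanishingIdeal ⟨CohB1.support G, hZ⟩).subschemeι := by
      have h3 : I.subschemeι z ∈ CohB1.support G := by
        rw [← hs, ← Scheme.IdealSheafData.range_subschemeι]
        exact ⟨z, rfl⟩
      rw [Scheme.IdealSheafData.range_subschemeι]
      simpa using h3
    obtain ⟨y, hy⟩ := hz
    refine ⟨y, I.subschemeι.isEmbedding.injective ?_⟩
    rw [← hy, ← ht]
    rfl
  have h3 : IsAffineHom (t ≫ I.subschemeι ≫ q) := by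
    rw [← Category.assoc, ht]
    infer_instance
  exact isAffineHom_of_thickening t (I.subschemeι ≫ q)

/-- `R^n q_* G = 0` for `n > 0` when the support of `G` is affine over the target. -/
theorem isZero_Rpush (G : W.Modules) (hq : Coh.IsQCoh G) (hft : CohB1.IsFT G)
    (hZ : IsClosed (CohB1.support G))
    [IsAffineHom ((Scheme.IdealSheafData.vanishingIdeal ⟨CohB1.support G, hZ⟩).subschemeι ≫ q)]
    [HasInjectiveResolutions W.Modules] (n : ℕ) (hn : 0 < n) :
    IsZero ((Coh.Rpush q n).obj G) := by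
  have h1 := isAffineHom_ann q G hq hft hZ
  let i := (FormalA.AnnIdeal.annIdeal G hq hft).subschemeι
  have h2 : HasInjectiveResolutions (FormalA.AnnIdeal.annIdeal G hq hft).subscheme.Modules :=
    Dcoh.DerSch.hasInjectiveResolutions _
  obtain ⟨e⟩ := Krr.H485.LerayCl.nonempty_iso i q ((Scheme.Modules.pullback i).obj G) n
  refine IsZero.of_iso ?_ ((Coh.Rpush q n).mapIso (FormalA.AnnIdeal.pushPullIso G hq hft).symm ≪≫ e.symm)
  exact PerfC.RpushAffine.isZero_Rpush (i ≫ q) _ (FormalA.PullbackQC.isQCoh_pullback _ G hq) n hn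

/-- A functor with values concentrated in degree `0` is isomorphic to `H^0` of it placed in degree `0`. -/
theorem single_of_homology {C : Type u'} [Category.{v'} C] {A : Type u} [Category.{v} A] [Abelian A]
    [HasDerivedCategory.{w} A] (Φ : C ⥤ DerivedCategory A)
    (h : ∀ c, (Φ.obj c).IsGE 0 ∧ (Φ.obj c).IsLE 0) :
    Nonempty (Φ ≅ (Φ ⋙ DerivedCategory.homologyFunctor A 0) ⋙ DerivedCategory.singleFunctor A 0) := by
  have hG : ∀ c, (DerivedCategory.singleFunctor A 0).essImage (Φ.obj c) := fun c => by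
    have := (h c).1
    have := (h c).2
    obtain ⟨e⟩ := LoccohA.DzTrunc.nonempty_iso_single (Φ.obj c) 0
    exact ⟨_, ⟨e.symm⟩⟩
  let L := Functor.essImage.liftFunctor Φ (DerivedCategory.singleFunctor A 0) hG
  let e : L ⋙ DerivedCategory.singleFunctor A 0 ≅ Φ :=
    Functor.essImage.liftFunctorCompIso Φ (DerivedCategory.singleFunctor A 0) hG
  let e2 : Φ ⋙ DerivedCategory.homologyFunctor A 0 ≅ L :=
    Functor.isoWhiskerRight e.symm _ ≪≫ Functor.associator _ _ _ ≪≫
      Functor.isoWhiskerLeft L (DerivedCategory.singleFunctorCompHomologyFunctorIso A 0) ≪≫ L.rightUnitor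
  exact ⟨e.symm ≪≫ Functor.isoWhiskerRight e2.symm _⟩

/-- `Rq_*(G[0]) ≅ (q_* G)[0]` naturally in `G` with `R^n q_* G = 0` for `n > 0`. -/
theorem nonempty_iso_of_isZero [DCoh.HasRpush q] [HasInjectiveResolutions W.Modules]
    (P : ObjectProperty W.Modules)
    (hP : ∀ G, P G → ∀ n : ℕ, 0 < n → IsZero ((Coh.Rpush q n).obj G)) :
    Nonempty (P.ι ⋙ DerivedCategory.singleFunctor W.Modules 0 ⋙ DCoh.Rpush q ≅
      P.ι ⋙ Scheme.Modules.pushforward q ⋙ DerivedCategory.singleFunctor Y.Modules 0) := by
  have h0 : ∀ c : P.FullSubcategory,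
      ((P.ι ⋙ DerivedCategory.singleFunctor W.Modules 0 ⋙ DCoh.Rpush q).obj c).IsGE 0 ∧
        ((P.ι ⋙ DerivedCategory.singleFunctor W.Modules 0 ⋙ DCoh.Rpush q).obj c).IsLE 0 := fun c => by
    constructor
    · exact PerfC.RpushTrunc.isGE_Rpush q (DCoh.inD W c.obj) 0
    · have := LoccohB.TopRepBound.isLE_rpush_single (f := q) c.obj 0 (fun p hp => hP _ c.property p hp) 0
      simpa using this
  obtain ⟨e⟩ := single_of_homology _ h0
  let a : (DerivedCategory.singleFunctor W.Modules 0 ⋙ DCoh.Rpush q) ⋙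
      DerivedCategory.homologyFunctor Y.Modules 0 ≅ Scheme.Modules.pushforward q :=
    Functor.associator _ _ _ ≪≫ PerfC.RpushSingle.natIso q 0 ≪≫ (Scheme.Modules.pushforward q).rightDerivedZeroIsoSelf
  exact ⟨e ≪≫ Functor.isoWhiskerRight (Functor.associator _ _ _ ≪≫ Functor.isoWhiskerLeft P.ι a) _ ≪≫
    Functor.associator _ _ _⟩

/-- `Rq_*(G[0]) ≅ (q_* G)[0]`, naturally in the coherent `G` whose reduced support is finite over `Y`. -/
theorem nonempty_iso [DCoh.HasRpush q] (P : ObjectProperty W.Modules)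
    (hP : ∀ G, P G → Coh.IsCoh G ∧ ∃ hZ : IsClosed (CohB1.support G),
      IsFinite ((Scheme.IdealSheafData.vanishingIdeal ⟨CohB1.support G, hZ⟩).subschemeι ≫ q)) :
    Nonempty (P.ι ⋙ DerivedCategory.singleFunctor W.Modules 0 ⋙ DCoh.Rpush q ≅
      P.ι ⋙ Coh.push q ⋙ DerivedCategory.singleFunctor Y.Modules 0) := by
  have : HasInjectiveResolutions W.Modules := Dcoh.DerSch.hasInjectiveResolutions _
  refine nonempty_iso_of_isZero q P fun G hG n hn => ?_
  obtain ⟨hc, hZ, hf⟩ := hP G hG
  exact isZero_Rpush q G hc.1 hc.2 hZ n hn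

end K357.SibPush
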