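import Groth.Agent.DEquiv.K357.Psi
import Groth.Agent.DEquiv.K357.DiagEnv
import Groth.Agent.DEquiv.K357.EnvMap
import Groth.Agent.Dcoh.PerfTens
import Groth.Agent.S1006
import Groth.Agent.Ega3B.Devissage

/-!
# The strong generator of a smooth proper scheme
-/

set_option autoImplicit false

universe u

open CategoryTheory CategoryTheory.Limits AlgebraicGeometry MonoidalCategory

attribute [local instance] HasDerivedCategory.standard

open scoped Groth.Agent.Dcoh.MonCat Groth.Agent.Dcoh.ModD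

namespace K357.StrongGen

open K353.OnSub DerivedCategory K353.Calc Groth.Agent Groth.Agent.Dcoh Groth.Agent.PerfC.IsoLocus Psi

variable {k : Type u} [Field k] {X : Scheme.{u}} (a : X ⟶ Spec (.of k)) [IsProper a] [Smooth a]

/-- A property closed under sums and containing `G[-i]` for `i` in a range contains `Ψ_F(E ⊠ G)`. -/
theorem psi_box_mem [DCoh.HasLpull (pullback.fst a a)] [DCoh.HasRpush (pullback.snd a a)] [DCoh.HasRpush a]
    (P : ObjectProperty (DCoh.D X)) [P.IsClosedUnderIsomorphisms]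
    (h0 : ∀ Z, IsZero Z → P Z) (hsum : ∀ A B, P A → P B → P (A ⊞ B))
    (E G : X.Modules) (hE : FlatMod.IsFinLocFree E) (hG : FlatMod.IsFinLocFree G)
    (c : ℤ) (n : ℕ) (hO : ∀ i, c ≤ i → i < c + n → P ((DCoh.inD X G)⟦-i⟧))
    (F : DCoh.D X) (hF : qc X F) (hcoh : DCoh.IsCohD ((DCoh.Rpush a).obj (F ⊗ DCoh.inD X E)))
    (hge : ((DCoh.Rpush a).obj (F ⊗ DCoh.inD X E)).IsGE c)
    (hle : ((DCoh.Rpush a).obj (F ⊗ DCoh.inD X E)).IsLE (c + n - 1)) :
    P ((psi a F).obj (DCoh.inD (pullback a a) (K237.BoxGen.box a a E G))) := by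
  have := hasLpull a
  obtain ⟨e⟩ := psi_box a F hF E G hE hG
  refine P.prop_of_iso e.symm ?_
  let Q : ObjectProperty (DCoh.D (Spec (.of k))) := P.inverseImage (theta a (DCoh.inD X G))
  have hadd : (theta a (DCoh.inD X G)).Additive := (isTriang_theta a _).additive
  have hb : PreservesBinaryBiproducts (theta a (DCoh.inD X G)) :=
    preservesBinaryBiproducts_of_preservesBiproducts _
  refine FieldDev.field_dev (R := .of k) (fun Q => (inferInstance : Module.Free k Q)) Q
    (fun Z hZ => h0 _ ((theta a (DCoh.inD X G)).map_isZero hZ)) (fun A B hA hB => ?_) c n (fun i hi hi' => ?_) _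
    hcoh hge hle
  · exact P.prop_of_iso ((theta a (DCoh.inD X G)).mapBiprod A B).symm (hsum _ _ hA hB)
  · obtain ⟨e⟩ := theta_single a (DCoh.inD X G) i
    exact P.prop_of_iso e.symm (hO i hi hi')

/-- The support of a coherent object is proper over the base. -/
theorem isProperOver_support {S Y : Scheme.{u}} [IsLocallyNoetherian Y] (f : Y ⟶ S) [IsProper f] (K : DCoh.D Y)
    (hK : DCoh.IsCohD K) (i : ℤ) : ClSub.IsProperOver f (CohB1.support (DCoh.HD K i)) :=
  ⟨Groth.Agent.Ega3B.Devissage.isClosed_support (hK i), inferInstance⟩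

include a in
theorem exists_gen : ∃ (E : DCoh.D X) (n : ℕ), DCoh.IsPerfect E ∧
      ∀ K : DCoh.D X, DCoh.IsPerfect K →
        ObjectProperty.triangEnvelopeIter (ObjectProperty.ofObj (fun _ : PUnit.{u + 1} => E)) n K := by
  have : CompactSpace X := QuasiCompact.compactSpace_of_compactSpace a
  have := hasRpush a
  have := hasLpull (pullback.fst a a)
  have := hasRpush (pullback.snd a a)
  have hX := DiagEnv.isNoetherian k X a
  obtain ⟨E, G, hE, hG, hmem⟩ := DiagEnv.diag_mem k X a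
  obtain ⟨n, hn⟩ := (ObjectProperty.prop_triangEnvelope_iff _ _).1 hmem
  refine ⟨DCoh.inD X G, n, PerfA.PerfLocal.isPerfect_inD_of_isFinLocFree hG, fun K hK => ?_⟩
  have hKE : DCoh.IsPerfect (K ⊗ DCoh.inD X E) :=
    PerfTens.isPerfect_tensor hK (PerfA.PerfLocal.isPerfect_inD_of_isFinLocFree hE)
  obtain ⟨hc, c, d, h1, h2⟩ := S1006.result X _ hKE
  obtain ⟨g1, g2, d', g3⟩ := S1001.result a (K ⊗ DCoh.inD X E) c d hc (isProperOver_support a _ hc)
  have hqK : qc X K := PerfA.QCohD.isQCohD_of_isPerfect K hK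
  obtain ⟨_, _⟩ := isTriang_psi a K
  set Q := ObjectProperty.ofObj (fun _ : PUnit.{u + 1} => DCoh.inD X G) with hQ
  have hGmem : EnvMap.E0 Q (DCoh.inD X G) := by
    have := Q.le_triangEnvelopeIter 0 _ (ObjectProperty.ofObj_apply _ PUnit.unit)
    rwa [ObjectProperty.triangEnvelopeIter_zero] at this
  have hbox : EnvMap.E0 Q ((psi a K).obj (DCoh.inD (pullback a a) (K237.BoxGen.box a a E G))) := by
    refine psi_box_mem a _ ?_ ?_ E G hE hG c (d' - c + 1).toNat (fun i _ _ => ?_) K hqK g1 g2 ?_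
    · intro Z hZ
      have hQ0 : EnvMap.E0 Q (DCoh.inD X G) := hGmem
      exact (EnvMap.E0 Q).prop_of_retract ⟨0, 0, hZ.eq_of_src _ _⟩ hQ0
    · intro A B hA hB
      exact (EnvMap.E0 Q).prop_of_isLimit_binaryFan (BinaryBiproduct.isLimit A B) hA hB
    · exact (EnvMap.E0 Q).le_shift (-i) _ hGmem
    · exact TStructure.t.isLE_of_le _ d' _ (by lia)
  have h := EnvMap.map_iter (psi a K) _ Q ?_ n _ hn
  · obtain ⟨e⟩ := psi_diag a K hqK
    exact (Q.triangEnvelopeIter n).prop_of_iso e h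
  · rintro _ ⟨⟩
    exact hbox

end K357.StrongGen
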