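import Mathlib.Algebra.Homology.DerivedCategory.SingleTriangle
import Mathlib.CategoryTheory.Triangulated.Generators
import Mathlib.CategoryTheory.Retract
import Mathlib.Tactic.Ring

/-!
# Syzygies in triangulated subcategories

`prop_of_tower`: if `0 → K_{n+1} → B_n → K_n → 0` are short exact sequences, `P` is a triangulated subcategory of
the derived category closed under direct summands and containing `B_0, …, B_{N-1}`, and every morphism
`K_0 ⟶ K_N⟦N⟧` vanishes, then `K_0` is in `P`.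
-/

set_option autoImplicit false

universe w v u

open CategoryTheory CategoryTheory.Limits CategoryTheory.Pretriangulated DerivedCategory

namespace K357.Syz

section Tri

variable {C : Type u} [Category.{v} C] [Preadditive C] [HasZeroObject C] [HasShift C ℤ]
  [∀ n : ℤ, (shiftFunctor C n).Additive] [Pretriangulated C]

/-- If `0 : X ⟶ Y` has its cone in `P`, then `X` is in `P`. -/
theorem prop_of_trW_zero (P : ObjectProperty C) [P.IsStableUnderRetracts] [P.IsStableUnderShift ℤ] {X Y : C}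
    (h : P.trW (0 : X ⟶ Y)) : P X := by
  rw [ObjectProperty.trW_iff] at h
  obtain ⟨Z, g, h, hT, hZ⟩ := h
  have : Epi h := (Triangle.mk (0 : X ⟶ Y) g h).epi₃ hT rfl
  have : IsSplitEpi h := isSplitEpi_of_epi h
  have hX : P (X⟦(1 : ℤ)⟧) := P.prop_of_retract ⟨section_ h, h, IsSplitEpi.id h⟩ hZ
  exact P.prop_of_iso (shiftShiftNeg X (1 : ℤ)) (P.le_shift (-1 : ℤ) _ hX)

end Tri

variable {A : Type u} [Category.{v} A] [Abelian A] [HasDerivedCategory.{w} A]

theorem exists_trW (P : ObjectProperty (DerivedCategory A)) [P.IsTriangulated] [P.IsStableUnderRetracts]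
    (S : ℕ → ShortComplex A) (hS : ∀ n, (S n).ShortExact) (e : ∀ n, (S n).X₁ ≅ (S (n + 1)).X₃)
    (N : ℕ) (hB : ∀ n < N, P ((singleFunctor A 0).obj (S n).X₂)) (n : ℕ) (hn : n ≤ N) :
    ∃ f : (singleFunctor A 0).obj (S 0).X₃ ⟶ ((singleFunctor A 0).obj (S n).X₃)⟦(n : ℤ)⟧, P.trW f := by
  induction n with
  | zero =>
    let i : (singleFunctor A 0).obj (S 0).X₃ ≅ ((singleFunctor A 0).obj (S 0).X₃)⟦((0 : ℕ) : ℤ)⟧ :=
      ((shiftFunctorZero' (DerivedCategory A) ((0 : ℕ) : ℤ) rfl).app _).symm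
    exact ⟨i.hom, P.trW_of_isIso _⟩
  | succ n ih =>
    obtain ⟨f, hf⟩ := ih (by lia)
    have h1 : P.trW (hS n).singleδ := by
      have := ObjectProperty.trW.mk' (P := P) (rot_of_distTriang _ (hS n).singleTriangle_distinguished) (hB n (by lia))
      exact this
    have h2 : P.trW ((hS n).singleδ⟦(n : ℤ)⟧') := h1.shift n
    have hz : (1 : ℤ) + (n : ℤ) = ((n + 1 : ℕ) : ℤ) := by push_cast; ring
    let i : (((singleFunctor A 0).obj (S n).X₁)⟦(1 : ℤ)⟧)⟦(n : ℤ)⟧ ≅
        ((singleFunctor A 0).obj (S (n + 1)).X₃)⟦((n + 1 : ℕ) : ℤ)⟧ :=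
      ((shiftFunctorAdd' (DerivedCategory A) (1 : ℤ) (n : ℤ) _ hz).app _).symm ≪≫
        (shiftFunctor (DerivedCategory A) ((n + 1 : ℕ) : ℤ)).mapIso ((singleFunctor A 0).mapIso (e n))
    have h3 : P.trW i.hom := P.trW_of_isIso _
    have hg : P.trW ((hS n).singleδ⟦(n : ℤ)⟧' ≫ i.hom) := P.trW.comp_mem _ _ h2 h3
    exact ⟨f ≫ (hS n).singleδ⟦(n : ℤ)⟧' ≫ i.hom, P.trW.comp_mem _ _ hf hg⟩

/-- Syzygies in a triangulated subcategory. -/
theorem prop_of_tower (P : ObjectProperty (DerivedCategory A)) [P.IsTriangulated] [P.IsStableUnderRetracts]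
    (S : ℕ → ShortComplex A) (hS : ∀ n, (S n).ShortExact) (e : ∀ n, (S n).X₁ ≅ (S (n + 1)).X₃)
    (N : ℕ) (hB : ∀ n < N, P ((singleFunctor A 0).obj (S n).X₂))
    (h0 : ∀ f : (singleFunctor A 0).obj (S 0).X₃ ⟶ ((singleFunctor A 0).obj (S N).X₃)⟦(N : ℤ)⟧, f = 0) :
    P ((singleFunctor A 0).obj (S 0).X₃) := by
  obtain ⟨f, hf⟩ := exists_trW P S hS e N hB N le_rfl
  rw [h0 f] at hf
  exact prop_of_trW_zero P hf

end K357.Syz
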